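import Cfsg.Agent.JFourType.ThompsonModel

/-!
Finite checks on the fixed space of the distinguished subgroup of order 16: no line over the field of
four elements is kept by the normalising elements, and what is orthogonal to the fixed vectors of a
distinguished involution is a commutator.
-/

set_option autoImplicit false
set_option maxRecDepth 100000

namespace Cfsg.Agent.JFourType.PFuse

open Cfsg.Agent.GFour25 Cfsg.Agent.CosetCert
open Cfsg.Agent.SporB.FischerU (Vec vecN enc vecN_enc enc_lt)
open Cfsg.Agent.LargeFischer (IsSemi)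
open Cfsg.Agent.LargeFischer.Thompson
open Cfsg.Agent.TTClass
open Data

/-- Every nonzero fixed vector is moved off its line. -/
noncomputable def lineOK : Bool :=
  uList.all fun u => Nat.beq u 0 || (List.range 3).any fun k =>
    !(Nat.beq (apL (nImgs.getD k idL) u) u) && !(Nat.beq (apL (nImgs.getD k idL) u) (apL omL u)) &&
      !(Nat.beq (apL (nImgs.getD k idL) u) (apL omL (apL omL u)))

/-- A complement of the fixed space. -/
noncomputable def compList : List ℕ :=
  (List.range 64).map fun s => (List.range 6).foldr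
    (fun i m => bif Nat.beq (Nat.land (Nat.shiftRight s i) 1) 1 then Nat.xor (wDual.getD i 0) m else m) 0

/-- A fixed vector is a commutator or pairs with a fixed vector. -/
noncomputable def imgOK : Bool :=
  (compList.all fun v => Nat.blt v 4096) && aList.all fun g => uList.all fun w =>
    (compList.any fun v => Nat.beq (Nat.xor (apL g v) v) w) ||
      compList.any fun v => Nat.beq (apL g v) v && !(qN (Nat.xor v w) == qN v)

set_option maxHeartbeats 4000000 in
theorem lineOK_true : lineOK = true := by decide +kernel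

set_option maxHeartbeats 4000000 in
theorem imgOK_true : imgOK = true := by decide +kernel

/-- A nonzero fixed vector is moved off its line by a normalising element of the cover. -/
theorem line_moved {u : Vec} (hu : u ∈ uSet) (h0 : u ≠ 0) :
    ∃ n ∈ K22, (∀ v ∈ uSet, n v ∈ uSet) ∧ (∀ a ∈ aGrp, n * a * n⁻¹ ∈ aGrp) ∧
      n u ≠ u ∧ n u ≠ omP u ∧ n u ≠ omP (omP u) := by
  have h := List.all_eq_true.1 lineOK_true _ hu
  rw [Bool.or_eq_true] at h
  rcases h with h | h
  · refine absurd ?_ h0
    have e := Nat.eq_of_beq_eq_true h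
    rw [← vecN_enc u, e]
    decide
  obtain ⟨k, hk, h'⟩ := List.any_eq_true.1 h
  simp only [Bool.and_eq_true, Bool.not_eq_true'] at h'
  obtain ⟨⟨-, -, hU, hA⟩, hr⟩ := good_word (R := K22) ⟨le_rfl⟩ (List.mem_range.1 hk)
  refine ⟨_, word_mem _, hU, hA, fun e => ?_, fun e => ?_, fun e => ?_⟩
  · have h2 := h'.1.1
    rw [← hr u, e, Nat.beq_refl] at h2
    exact Bool.noConfusion h2
  · have h2 := h'.1.2
    rw [← hr u, e, rep_omP u, Nat.beq_refl] at h2
    exact Bool.noConfusion h2
  · have h2 := h'.2
    rw [← hr u, e, rep_omP (omP u), rep_omP u, Nat.beq_refl] at h2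
    exact Bool.noConfusion h2

/-- A fixed vector orthogonal to the fixed vectors of a distinguished involution is a commutator. -/
theorem img_of_perp {a : Equiv.Perm Vec} (ha : a ∈ aGrp) (ha1 : a ≠ 1) {w : Vec} (hw : w ∈ uSet) :
    (∃ v, a v + v = w) ∨
      ∃ v, a v = v ∧ UnitF4.H (v + w) (v + w) ≠ UnitF4.H v v := by
  obtain ⟨g, hg, hr⟩ := ha.resolve_left ha1
  have h := imgOK_true
  rw [imgOK, Bool.and_eq_true] at h
  have hlt : ∀ v ∈ compList, v < 4096 := fun v hv =>
    Eq.mp Nat.blt_eq (List.all_eq_true.1 h.1 v hv)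
  have h2 := List.all_eq_true.1 (List.all_eq_true.1 h.2 g hg) _ hw
  rw [Bool.or_eq_true] at h2
  rcases h2 with h2 | h2
  · obtain ⟨v, hv, he⟩ := List.any_eq_true.1 h2
    refine Or.inl ⟨vecN v, ?_⟩
    have e : enc (a (vecN v) + vecN v) = enc w := by
      rw [enc_add, hr, enc_vecN (hlt v hv)]
      exact Nat.eq_of_beq_eq_true he
    rw [← vecN_enc (a (vecN v) + vecN v), e, vecN_enc]
  · obtain ⟨v, hv, he⟩ := List.any_eq_true.1 h2
    rw [Bool.and_eq_true, Bool.not_eq_true', beq_eq_false_iff_ne] at he
    refine Or.inr ⟨vecN v, ?_, fun e => he.2 ?_⟩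
    · have e : enc (a (vecN v)) = v := by
        rw [hr, enc_vecN (hlt v hv)]
        exact Nat.eq_of_beq_eq_true he.1
      rw [← vecN_enc (a (vecN v)), e]
    · refine Bool.eq_iff_iff.2 ?_
      rw [show Nat.xor v (enc w) = enc (vecN v) ^^^ enc w by rw [enc_vecN (hlt v hv)]; rfl, qN_xor, e,
        ← qN_enc, enc_vecN (hlt v hv)]

end Cfsg.Agent.JFourType.PFuse
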