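/-! Machine-generated data for the fusion of the central involution in a group of Janko-four type:
masks of vectors by the length of a word into the fixed space, and bases of fixed spaces. -/

set_option autoImplicit false
set_option maxRecDepth 100000

namespace Cfsg.Agent.JFourType.Data

/-- data -/
noncomputable def fixBases : List (List Nat) :=
  [[1, 2, 4, 8, 320, 640, 1040, 2080],
  [6, 11, 97, 178, 289, 562, 1040, 2080],
  [6, 11, 98, 179, 290, 563, 1040, 2080],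
  [6, 11, 81, 162, 273, 546, 1040, 2080],
  [6, 11, 66, 131, 258, 515, 1040, 2080],
  [6, 11, 65, 130, 257, 514, 1040, 2080],
  [6, 11, 114, 147, 306, 531, 1040, 2080],
  [6, 11, 64, 128, 256, 512, 1040, 2080],
  [6, 11, 96, 176, 288, 560, 1040, 2080],
  [6, 11, 18, 35, 320, 640, 1026, 2051],
  [6, 11, 99, 177, 291, 561, 1040, 2080],
  [6, 11, 16, 32, 320, 640, 1024, 2048],
  [6, 11, 113, 146, 305, 530, 1040, 2080],
  [6, 11, 82, 163, 274, 547, 1040, 2080],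
  [6, 11, 67, 129, 259, 513, 1040, 2080]]

/-- data -/
noncomputable def imPre : List (List Nat) :=
  [[0, 16, 32, 48, 64, 80, 96, 112, 128, 144, 160, 176, 192, 208, 224, 240],
  [0, 1, 2, 3, 16, 17, 18, 19, 32, 33, 34, 35, 48, 49, 50, 51],
  [0, 1, 2, 3, 16, 17, 18, 19, 32, 33, 34, 35, 48, 49, 50, 51],
  [0, 1, 2, 3, 16, 17, 18, 19, 32, 33, 34, 35, 48, 49, 50, 51],
  [0, 1, 2, 3, 16, 17, 18, 19, 32, 33, 34, 35, 48, 49, 50, 51],
  [0, 1, 2, 3, 16, 17, 18, 19, 32, 33, 34, 35, 48, 49, 50, 51],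
  [0, 1, 2, 3, 16, 17, 18, 19, 32, 33, 34, 35, 48, 49, 50, 51],
  [0, 1, 2, 3, 16, 17, 18, 19, 32, 33, 34, 35, 48, 49, 50, 51],
  [0, 1, 2, 3, 16, 17, 18, 19, 32, 33, 34, 35, 48, 49, 50, 51],
  [0, 1, 2, 3, 64, 65, 66, 67, 128, 129, 130, 131, 192, 193, 194, 195],
  [0, 1, 2, 3, 16, 17, 18, 19, 32, 33, 34, 35, 48, 49, 50, 51],
  [0, 1, 2, 3, 64, 65, 66, 67, 128, 129, 130, 131, 192, 193, 194, 195],
  [0, 1, 2, 3, 16, 17, 18, 19, 32, 33, 34, 35, 48, 49, 50, 51],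
  [0, 1, 2, 3, 16, 17, 18, 19, 32, 33, 34, 35, 48, 49, 50, 51],
  [0, 1, 2, 3, 16, 17, 18, 19, 32, 33, 34, 35, 48, 49, 50, 51]]

end Cfsg.Agent.JFourType.Data
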