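import Cfsg.Agent.JFourType.ThompsonModel
import Cfsg.Agent.JFourType.PFusionData

/-!
Kernel checks for the fusion of the central involution: singular vectors reach the fixed space, the fixed
space of an involution of the distinguished subgroup, and the absence of invariant lines.
-/

set_option autoImplicit false
set_option maxRecDepth 100000
set_option maxHeartbeats 4000000

namespace Cfsg.Agent.JFourType.PFusion

open Cfsg Cfsg.Agent.GFour25 Cfsg.Agent.CosetCert
open Cfsg.Agent.SporB.FischerU (Vec vecN enc vecN_enc enc_lt)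
open Cfsg.Agent.LargeFischer (IsSemi semiU twist)
open Cfsg.Agent.LargeFischer.Thompson
open Cfsg.Agent.TTClass
open Cfsg.Agent.JFourType Cfsg.Agent.JFourType.Data

/-- A fixed basis vector that is not orthogonal, or a preimage under the difference map. -/
noncomputable def fixOK : Bool :=
  (List.range 15).all fun i =>
    (fixBases.getD i []).all (fun b => Nat.blt b 4096 && Nat.beq (apL (aList.getD i []) b) b) &&
    (imPre.getD i []).all (fun p => Nat.blt p 4096) &&
    uList.all fun u => (imPre.getD i []).any (fun p => Nat.beq (apL (aList.getD i []) p ^^^ p) u) ||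
      (fixBases.getD i []).any fun b => !(qN (b ^^^ u) == qN b)

theorem fixOK_true : fixOK = true := by decide +kernel

/-- For an involution of the distinguished subgroup, a vector of the fixed space either is a difference
or is not orthogonal to the vectors the involution fixes. -/
theorem image_or_fix {a : Equiv.Perm Vec} (ha : a ∈ aGrp) (ha1 : a ≠ 1) {u : Vec} (hu : u ∈ uSet) :
    (∃ v, a v + v = u) ∨ ∃ v, a v = v ∧ UnitF4.H (v + u) (v + u) ≠ UnitF4.H v v := by
  obtain ⟨g, hg, hga⟩ := ha.resolve_left ha1
  obtain ⟨i, hi, rfl⟩ := exists_getD [] hg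
  rw [aList_facts.1] at hi
  have h := List.all_eq_true.1 fixOK_true i (List.mem_range.2 hi)
  simp only [Bool.and_eq_true, List.all_eq_true, Bool.or_eq_true, List.any_eq_true] at h
  obtain ⟨⟨hb, hp⟩, hu'⟩ := h
  rcases hu' _ hu with ⟨p, hp', he⟩ | ⟨b, hb', he⟩
  · refine Or.inl ⟨vecN p, ?_⟩
    have hlt : p < 4096 := Eq.mp Nat.blt_eq (hp p hp')
    have h1 : enc (a (vecN p) + vecN p) = enc u := by
      rw [enc_add, hga, enc_vecN hlt]
      exact Nat.eq_of_beq_eq_true he
    rw [← vecN_enc (a (vecN p) + vecN p), h1, vecN_enc]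
  · obtain ⟨h1, h2⟩ := hb b hb'
    have hlt : b < 4096 := Eq.mp Nat.blt_eq h1
    refine Or.inr ⟨vecN b, ?_, fun e => ?_⟩
    · rw [← vecN_enc (a (vecN b)), hga, enc_vecN hlt, Nat.eq_of_beq_eq_true h2]
    · have hqeq : qN (b ^^^ enc u) = qN b := by
        conv_lhs => rw [← enc_vecN hlt]
        conv_rhs => rw [← enc_vecN hlt]
        rw [Bool.eq_iff_iff, qN_xor, qN_enc, e]
      rw [hqeq] at he
      simp at he

/-- Every nonzero fixed vector is paired with a dual vector. -/
noncomputable def pairOK' : Bool :=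
  uList.all fun u => Nat.beq u 0 || wDual.any fun w => !(qN (w ^^^ u) == qN w)

theorem pairOK'_true : pairOK' = true := by decide +kernel

theorem exists_pair {u : Vec} (hu : u ∈ uSet) (h0 : u ≠ 0) :
    ∃ v, UnitF4.H (v + u) (v + u) ≠ UnitF4.H v v := by
  have hw : (wDual.all fun w => Nat.blt w 4096) = true := by decide +kernel
  have h := List.all_eq_true.1 pairOK'_true _ hu
  rcases (Bool.or_eq_true _ _).mp h with h | h
  · refine absurd ?_ h0
    rw [← vecN_enc u, Nat.eq_of_beq_eq_true h]
    have : enc (0 : Vec) = 0 := by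
      have h1 := enc_add (0 : Vec) 0
      rwa [add_zero, Nat.xor_self] at h1
    rw [← this, vecN_enc]
  · obtain ⟨w, hwm, he⟩ := List.any_eq_true.1 h
    have hlt : w < 4096 := Eq.mp Nat.blt_eq (List.all_eq_true.1 hw w hwm)
    refine ⟨vecN w, fun e => ?_⟩
    have hqeq : qN (w ^^^ enc u) = qN w := by
      conv_lhs => rw [← enc_vecN hlt]
      conv_rhs => rw [← enc_vecN hlt]
      rw [Bool.eq_iff_iff, qN_xor, qN_enc, e]
    rw [hqeq] at he
    simp at he

/-- No line over the field of four elements is invariant. -/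
noncomputable def moveOK : Bool :=
  uList.all fun u => Nat.beq u 0 || (List.range 3).any fun k =>
    !(Nat.beq (apL (nImgs.getD k idL) u) u) && !(Nat.beq (apL (nImgs.getD k idL) u) (apL omL u)) &&
      !(Nat.beq (apL (nImgs.getD k idL) u) (u ^^^ apL omL u))

theorem moveOK_true : moveOK = true := by decide +kernel

theorem exists_move {R : Subgroup (Equiv.Perm Vec)} (hR : Contains R) {u : Vec} (hu : u ∈ uSet)
    (h0 : u ≠ 0) : ∃ n, Good R n ∧ n u ≠ u ∧ n u ≠ omP u ∧ n u ≠ u + omP u := by
  have h := List.all_eq_true.1 moveOK_true _ hu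
  rcases (Bool.or_eq_true _ _).mp h with h | h
  · refine absurd ?_ h0
    rw [← vecN_enc u, Nat.eq_of_beq_eq_true h]
    have : enc (0 : Vec) = 0 := by
      have h1 := enc_add (0 : Vec) 0
      rwa [add_zero, Nat.xor_self] at h1
    rw [← this, vecN_enc]
  · obtain ⟨k, hk, he⟩ := List.any_eq_true.1 h
    rw [List.mem_range] at hk
    obtain ⟨hn, hr⟩ := good_word hR hk
    simp only [Bool.and_eq_true, Bool.not_eq_true'] at he
    refine ⟨_, hn, fun e => ?_, fun e => ?_, fun e => ?_⟩
    · rw [← hr u, e, Nat.beq_refl] at he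
      simp at he
    · rw [← hr u, e, ← rep_omP u, Nat.beq_refl] at he
      simp at he
    · rw [← hr u, e, ← rep_omP u, ← enc_add, Nat.beq_refl] at he
      simp at he

end Cfsg.Agent.JFourType.PFusion
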