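import Cfsg.Agent.LocEven.DihedralEightCent
import Cfsg.Agent.Suborbit.Dihedral
import Cfsg.Agent.Linear.Transvection
import Cfsg.Agent.Cores.Basic
import Mathlib.GroupTheory.FixedPointFree
import Mathlib.GroupTheory.SpecificGroups.Alternating.Centralizer

/-!
A group with two involution classes, one centraliser dihedral of order 8 and one of order 12, and a
self-centralising-up-to-the-involution element of order 3, is the symmetric group of degree 5.
-/

set_option autoImplicit false
set_option linter.style.haveILetI false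
set_option linter.unusedVariables false

namespace Cfsg.Agent.JFourType

open Subgroup

namespace SevenGroup

/-- A nonabelian group of order 8 with a four-subgroup is dihedral. -/
theorem exists_dihedral_equiv {C : Type*} [Group C] [Finite C] (hC : Nat.card C = 8)
    (hnab : ∃ a b : C, a * b ≠ b * a) (W : Subgroup C) (hW : Nat.card W = 4)
    (hWel : ∀ w ∈ W, w * w = 1) : Nonempty (C ≃* DihedralGroup 4) := by
  classical
  obtain ⟨r, hr⟩ : ∃ r : C, r * r ≠ 1 := by
    by_contra! h
    obtain ⟨a, b, hab⟩ := hnab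
    have hi : ∀ x : C, x⁻¹ = x := fun x => inv_eq_of_mul_eq_one_left (h x)
    exact hab (by rw [← hi (a * b), mul_inv_rev, hi, hi])
  have hr4 : orderOf r = 4 := by
    obtain ⟨i, hi, hri⟩ := (Nat.dvd_prime_pow Nat.prime_two).1
      (show orderOf r ∣ 2 ^ 3 by simpa [hC] using orderOf_dvd_natCard r)
    interval_cases i
    · exact absurd (show r * r = 1 by
        rw [orderOf_eq_one_iff.1 (show orderOf r = 1 by simpa using hri), one_mul]) hr
    · exact absurd (show r * r = 1 by rw [← pow_two, ← pow_orderOf_eq_one r, hri]; rfl) hr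
    · simpa using hri
    · exfalso
      have : IsCyclic C := isCyclic_of_orderOf_eq_card r (by rw [hri, hC]; norm_num)
      obtain ⟨a, b, hab⟩ := hnab
      exact hab (by letI := this.commGroup; exact mul_comm a b)
  set R := zpowers r with hR
  have hRc : Nat.card R = 4 := by rw [hR, Nat.card_zpowers, hr4]
  obtain ⟨s, hsW, hsR⟩ : ∃ s ∈ W, s ∉ R := by
    by_contra! h
    have hWR : W = R := eq_of_le_of_card_ge h (by rw [hRc, hW])
    exact hr (hWel r (hWR.ge (mem_zpowers r)))
  have hidx : R.index = 2 := by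
    have := R.card_mul_index
    rw [hRc, hC] at this
    omega
  haveI : R.Normal := normal_of_index_eq_two hidx
  have hs2 : s * s = 1 := hWel s hsW
  have hsi : s⁻¹ = s := inv_eq_of_mul_eq_one_left hs2
  obtain ⟨k, hk4, hk⟩ : ∃ k, k < 4 ∧ r ^ k = s * r * s := by
    have hmem : s * r * s⁻¹ ∈ R := Subgroup.Normal.conj_mem ‹_› r (mem_zpowers r) s
    rw [hsi] at hmem
    obtain ⟨n, hn⟩ := ((isOfFinOrder_of_finite r).mem_powers_iff_mem_zpowers).2 hmem
    refine ⟨n % 4, Nat.mod_lt _ (by norm_num), ?_⟩
    rw [← hr4, pow_mod_orderOf]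
    exact hn
  have hback : s * r ^ k * s = r := by
    rw [hk, show s * (s * r * s) * s = (s * s) * r * (s * s) by group, hs2, one_mul, mul_one]
  have r4 : r ^ 4 = 1 := hr4 ▸ pow_orderOf_eq_one r
  have hconj : s * r * s = r⁻¹ := by
    interval_cases k
    · exfalso
      rw [pow_zero, mul_one, hs2] at hback
      exact hr (by rw [← hback, one_mul])
    · exfalso
      rw [pow_one] at hk
      have hsr : s * r = r * s := by
        calc s * r = s * r * (s * s) := by rw [hs2, mul_one]
          _ = (s * r * s) * s := by group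
          _ = r * s := by rw [← hk]
      have hdec : ∀ x : C, x ∈ R ∨ ∃ y ∈ R, x = s * y := fun x => by
        by_cases hx : x ∈ R
        · exact Or.inl hx
        · exact Or.inr ⟨s⁻¹ * x, (mul_mem_iff_of_index_two hidx).2
            (iff_of_false (by rwa [inv_mem_iff]) hx), by group⟩
      have hsC : ∀ y ∈ R, s * y = y * s := by
        rintro y ⟨n, rfl⟩
        exact (Commute.zpow_right hsr n).eq
      have hRR : ∀ y ∈ R, ∀ y' ∈ R, y * y' = y' * y := by
        rintro y ⟨n, rfl⟩ y' ⟨m, rfl⟩
        exact (Commute.zpow_zpow_self r n m).eq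
      obtain ⟨a, b, hab⟩ := hnab
      refine hab ?_
      rcases hdec a with ha | ⟨y, hy, rfl⟩ <;> rcases hdec b with hb | ⟨y', hy', rfl⟩
      · exact hRR a ha b hb
      · calc a * (s * y') = (a * s) * y' := by group
          _ = (s * a) * y' := by rw [hsC a ha]
          _ = s * (a * y') := by group
          _ = s * (y' * a) := by rw [hRR a ha y' hy']
          _ = (s * y') * a := by group
      · calc (s * y) * b = s * (y * b) := by group
          _ = s * (b * y) := by rw [hRR y hy b hb]
          _ = (s * b) * y := by group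
          _ = (b * s) * y := by rw [hsC b hb]
          _ = b * (s * y) := by group
      · calc (s * y) * (s * y') = s * (y * s) * y' := by group
          _ = s * (s * y) * y' := by rw [hsC y hy]
          _ = s * s * (y * y') := by group
          _ = s * s * (y' * y) := by rw [hRR y hy y' hy']
          _ = s * (s * y') * y := by group
          _ = s * (y' * s) * y := by rw [hsC y' hy']
          _ = (s * y') * (s * y) := by group
    · exfalso
      refine hr ?_
      rw [← hback, show s * r ^ 2 * s * (s * r ^ 2 * s) = s * r ^ 2 * (s * s) * r ^ 2 * s by group,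
        hs2, mul_one, show s * r ^ 2 * r ^ 2 = s * r ^ 4 by group, r4, mul_one, hs2]
    · rw [← hk]
      exact eq_inv_of_mul_eq_one_left (by rw [← pow_succ, r4])
  let f := Suborbit.dihedralHom (n := 4) r s r4 hs2 hconj
  have hr' : r ∈ f.range := ⟨_, Suborbit.dihedralHom_r_one r s r4 hs2 hconj⟩
  have hs' : s ∈ f.range := ⟨_, Suborbit.dihedralHom_sr_zero r s r4 hs2 hconj⟩
  have hsurj : Function.Surjective f := by
    intro x
    by_cases hx : x ∈ R
    · exact (zpowers_le.2 hr') hx
    · have hy : s⁻¹ * x ∈ R := (mul_mem_iff_of_index_two hidx).2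
        (iff_of_false (by rwa [inv_mem_iff]) hx)
      have := mul_mem hs' (zpowers_le.2 hr' hy)
      rwa [mul_inv_cancel_left] at this
  exact ⟨(MulEquiv.ofBijective f (hsurj.bijective_of_nat_card_le
    (by rw [hC, DihedralGroup.nat_card]))).symm⟩

theorem four_perm : ∀ x : Equiv.Perm (Fin 4), x * x = 1 → x ≠ 1 →
    (Finset.univ.filter fun y => y * x = x * y).card ≠ 12 := by
  decide +kernel

theorem five_perm : ∀ x : Equiv.Perm (Fin 5), x * x = 1 → x ≠ 1 →
    (∃ g, g * Equiv.swap 0 1 * g⁻¹ = x) ∨ (∃ g, g * (Equiv.swap 0 1 * Equiv.swap 2 3) * g⁻¹ = x) := by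
  decide +kernel

/-- Centraliser orders are preserved by isomorphisms. -/
theorem card_centralizer_map {X Y : Type*} [Group X] [Group Y] (e : X ≃* Y) (x : X) :
    Nat.card (centralizer ({e x} : Set Y)) = Nat.card (centralizer ({x} : Set X)) := by
  refine (Nat.card_congr (e.toEquiv.subtypeEquiv fun y => ?_)).symm
  show y ∈ centralizer ({x} : Set X) ↔ e y ∈ centralizer ({e x} : Set Y)
  rw [mem_centralizer_singleton_iff, mem_centralizer_singleton_iff, ← map_mul, ← map_mul,
    e.injective.eq_iff]

/-- Perfectness is preserved by isomorphisms. -/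
theorem perfect_of_equiv {X Y : Type*} [Group X] [Group Y] (e : X ≃* Y)
    (h : commutator Y = ⊤) : commutator X = ⊤ := by
  have h2 := Subgroup.map_commutator (⊤ : Subgroup Y) ⊤ e.symm.toMonoidHom
  rw [← commutator_def, h, Subgroup.map_top_of_surjective _ e.symm.surjective, ← commutator_def] at h2
  exact h2.symm

end SevenGroup

open SevenGroup in
/-- A finite group with two involutions `z`, `t` as in the centraliser of an element of order 7 in a
group of Janko-four type is the symmetric group of degree 5. -/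
theorem seven_quotient {X : Type*} [Group X] [Finite X] (z t : X) (W : Subgroup X)
    (hz : orderOf z = 2) (ht : orderOf t = 2) (hnc : ¬ IsConj z t) (hW : Nat.card W = 4)
    (hWel : ∀ w ∈ W, w * w = 1) (htW : t ∈ W) (hWt : ∀ w ∈ W, w ≠ 1 → IsConj t w)
    (hWC : W ≤ Subgroup.centralizer ({t} : Set X))
    (hCt : Nat.card (Subgroup.centralizer ({t} : Set X)) = 8)
    (hCtn : ∃ a ∈ Subgroup.centralizer ({t} : Set X), ∃ b ∈ Subgroup.centralizer ({t} : Set X),
      a * b ≠ b * a)
    (hCz : Nat.card (Subgroup.centralizer ({z} : Set X)) = 12) (p : X) (hp : orderOf p = 3)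
    (hpz : p * z = z * p) (hCp : Nat.card (Subgroup.centralizer ({p} : Set X)) = 6) :
    Nonempty (X ≃* Equiv.Perm (Fin 5)) ∧
      (∀ x : X, orderOf x = 2 → IsConj z x ∨ IsConj t x) := by
  classical
  haveI : Fact (Nat.Prime 2) := ⟨Nat.prime_two⟩
  set C := Subgroup.centralizer ({t} : Set X) with hCdef
  obtain ⟨e⟩ : Nonempty (↥C ≃* DihedralGroup 4) := by
    obtain ⟨a, ha, b, hb, hab⟩ := hCtn
    refine exists_dihedral_equiv hCt ⟨⟨a, ha⟩, ⟨b, hb⟩, fun h => hab (congrArg Subtype.val h)⟩
      (W.subgroupOf C) (by rw [Nat.card_congr (subgroupOfEquivOfLe hWC).toEquiv, hW])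
      fun w hw => Subtype.ext (hWel _ hw)
  have hperfno : commutator X ≠ ⊤ := fun h =>
    hnc (CharExt.D8.isConj_involution h ht e hz).symm
  rcases LocEven.D8Cent.classify t ht e with h | h | h | h | h
  · exfalso
    set O := Cfsg.oddCore X with hO
    haveI hOn : O.Normal := by
      rw [hO]
      unfold Cfsg.oddCore
      infer_instance
    have hOodd : (Nat.card O).Coprime 2 := Cores.pPrimeCore_coprime
    have hidx : O.index ∣ 8 := by
      have h1 : O.relIndex C ∣ Nat.card C := Subgroup.relIndex_dvd_card _ _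
      rw [← Subgroup.relIndex_sup_right, h, Subgroup.relIndex_top_right, hCt] at h1
      exact h1
    have hpO : p ∈ O := by
      have hmem : p ^ O.index ∈ O := Subgroup.pow_index_mem O p
      have hcop : O.index.Coprime (orderOf p) := by
        rw [hp]
        exact Nat.Coprime.coprime_dvd_left hidx (by norm_num)
      obtain ⟨m, hm⟩ := exists_pow_eq_self_of_coprime hcop
      rw [← hm]
      exact O.pow_mem hmem m
    -- every conjugate of `t` inverts the core
    have hinv : ∀ a : X, IsConj t a → ∀ o ∈ O, a * o * a⁻¹ = o⁻¹ := by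
      intro a ha o ho
      obtain ⟨g, rfl⟩ := isConj_iff.1 ha
      let φ : ↥O →* ↥O := (MulAut.conjNormal (g * t * g⁻¹) : MulAut ↥O).toMonoidHom
      have ht2 : t * t = 1 := by rw [← pow_two, ← ht, pow_orderOf_eq_one]
      have hfix : MonoidHom.FixedPointFree φ := by
        intro u hu
        have hu' : g * t * g⁻¹ * (u : X) * (g * t * g⁻¹)⁻¹ = (u : X) := by
          exact congrArg Subtype.val hu
        have hc : g⁻¹ * (u : X) * g ∈ C := by
          rw [hCdef, mem_centralizer_singleton_iff]
          calc g⁻¹ * (u : X) * g * t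
              = g⁻¹ * ((u : X) * (g * t * g⁻¹)) * g := by group
            _ = g⁻¹ * ((g * t * g⁻¹ * (u : X) * (g * t * g⁻¹)⁻¹) * (g * t * g⁻¹)) * g := by
              rw [hu']
            _ = t * (g⁻¹ * (u : X) * g) := by group
        have hd : orderOf (g⁻¹ * (u : X) * g) ∣ 8 := hCt ▸ Subgroup.orderOf_dvd_natCard C hc
        rw [show g⁻¹ * (u : X) * g = MulAut.conj g⁻¹ (u : X) by simp [mul_assoc],
          MulEquiv.orderOf_eq, Subgroup.orderOf_coe] at hd
        refine orderOf_eq_one_iff.1 (Nat.eq_one_of_dvd_coprimes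
          (Nat.Coprime.pow_right 3 hOodd) (orderOf_dvd_natCard u) hd)
      have h2 : Function.Involutive φ := fun u => Subtype.ext (by
        have hi : (g * t * g⁻¹) * (g * t * g⁻¹) = 1 := by
          calc _ = g * (t * t) * g⁻¹ := by group
            _ = 1 := by rw [ht2]; group
        show g * t * g⁻¹ * (g * t * g⁻¹ * (u : X) * (g * t * g⁻¹)⁻¹) * (g * t * g⁻¹)⁻¹ = (u : X)
        calc _ = (g * t * g⁻¹) * (g * t * g⁻¹) * (u : X) *
              ((g * t * g⁻¹) * (g * t * g⁻¹))⁻¹ := by group
          _ = _ := by rw [hi]; group)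
      have := congrFun (MonoidHom.FixedPointFree.coe_eq_inv_of_involutive hfix h2) ⟨o, ho⟩
      exact congrArg Subtype.val this
    obtain ⟨w, hwW, hw1, hwt⟩ : ∃ w ∈ W, w ≠ 1 ∧ w ≠ t := by
      by_contra! hcon
      have hle : (W : Set X) ⊆ {1, t} := fun w hw => by
        by_cases h1 : w = 1
        · exact Or.inl h1
        · exact Or.inr (hcon w hw h1)
      have h4 := Set.ncard_le_ncard hle (Set.toFinite _)
      rw [← Nat.card_coe_set_eq, show Nat.card (W : Set X) = 4 from hW] at h4
      have h5 := Set.ncard_insert_le (1 : X) {t}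
      rw [Set.ncard_singleton] at h5
      omega
    have htw1 : t * w ≠ 1 := fun hh => hwt (by
      rw [← inv_eq_of_mul_eq_one_right hh]
      exact inv_eq_of_mul_eq_one_left (hWel t htW))
    have i1 := hinv t (IsConj.refl t) p hpO
    have i2 := hinv w (hWt w hwW hw1) p hpO
    have i3 := hinv (t * w) (hWt _ (W.mul_mem htW hwW) htw1) p hpO
    have hp' : t * w * p * (t * w)⁻¹ = p := by
      calc t * w * p * (t * w)⁻¹ = t * (w * p * w⁻¹) * t⁻¹ := by group
        _ = t * p⁻¹ * t⁻¹ := by rw [i2]
        _ = (t * p * t⁻¹)⁻¹ := by group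
        _ = p := by rw [i1, inv_inv]
    have h2 : p ^ 2 = 1 := by rw [pow_two]; exact mul_eq_one_iff_eq_inv.2 (hp'.symm.trans i3)
    have := orderOf_dvd_of_pow_eq_one h2
    rw [hp] at this
    norm_num at this
  · exfalso
    obtain ⟨f⟩ := h
    have h1 : f z * f z = 1 := by
      rw [← map_mul, ← pow_two, ← hz, pow_orderOf_eq_one, map_one]
    have h2 : f z ≠ 1 := fun hh => by
      rw [← MulEquiv.orderOf_eq f, hh, orderOf_one] at hz
      omega
    refine four_perm (f z) h1 h2 ?_
    rw [← hCz, ← card_centralizer_map f z, ← Fintype.card_subtype, ← Nat.card_eq_fintype_card]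
    exact Nat.card_congr (Equiv.subtypeEquivRight fun y => mem_centralizer_singleton_iff.symm)
  · obtain ⟨f⟩ := h
    refine ⟨⟨f⟩, fun x hx => ?_⟩
    have inv : ∀ y : X, orderOf y = 2 → f y * f y = 1 ∧ f y ≠ 1 := fun y hy =>
      ⟨by rw [← map_mul, ← pow_two, ← hy, pow_orderOf_eq_one, map_one], fun hh => by
        rw [← MulEquiv.orderOf_eq f, hh, orderOf_one] at hy
        omega⟩
    have back : ∀ a b : X, IsConj (f a) (f b) → IsConj a b := fun a b hab => by
      simpa using f.symm.toMonoidHom.map_isConj hab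
    have cls : ∀ y : X, orderOf y = 2 → IsConj (Equiv.swap 0 1 : Equiv.Perm (Fin 5)) (f y) ∨
        IsConj (Equiv.swap 0 1 * Equiv.swap 2 3 : Equiv.Perm (Fin 5)) (f y) := fun y hy => by
      rcases five_perm (f y) (inv y hy).1 (inv y hy).2 with ⟨g, hg⟩ | ⟨g, hg⟩
      · exact Or.inl (isConj_iff.2 ⟨g, hg⟩)
      · exact Or.inr (isConj_iff.2 ⟨g, hg⟩)
    rcases cls z hz with hz' | hz' <;> rcases cls t ht with ht' | ht'
    · exact absurd (back z t (hz'.symm.trans ht')) hnc
    · exact (cls x hx).imp (fun hx' => back z x (hz'.symm.trans hx'))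
        (fun hx' => back t x (ht'.symm.trans hx'))
    · exact (cls x hx).symm.imp (fun hx' => back z x (hz'.symm.trans hx'))
        (fun hx' => back t x (ht'.symm.trans hx'))
    · exact absurd (back z t (hz'.symm.trans ht')) hnc
  · exfalso
    obtain ⟨f⟩ := h
    exact hperfno (perfect_of_equiv f (Linear.commutator_SL_eq_top (by rw [Fintype.card_fin])))
  · exfalso
    obtain ⟨f⟩ := h
    refine hperfno (perfect_of_equiv f ?_)
    exact commutator_alternatingGroup_eq_top (by simp)

end Cfsg.Agent.JFourType
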