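import Cfsg.Agent.JFourType.SevenV
import Cfsg.Agent.JFourType.SevenGroup
import Cfsg.Agent.JFourType.SylThree
import Cfsg.Agent.JFourType.Fusion

/-!
The local structure at an element of order seven of a group of Janko-four type, given the structure
of the normalizers of the distinguished subgroup of order three and of an elementary abelian subgroup
of order `2^11`.
-/

set_option autoImplicit false

namespace Cfsg.Agent.JFourType.Seven

open Subgroup

variable {G : Type*} [Group G] [Finite G] {z : G} {P : Subgroup G}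

/-- The conclusion. -/
def Concl (S : Subgroup G) : Prop :=
  (∃ I : Subgroup G, IsInternalDirectProduct S I (centralizer (S : Set G)) ∧
      Nonempty (↥I ≃* Equiv.Perm (Fin 5))) ∧
    Nat.card ↥(normalizer (S : Set G)) = 3 * Nat.card ↥(centralizer (S : Set G)) ∧
    Nat.card ↥(normalizer (S : Set G)) = 2 ^ 3 * 3 ^ 2 * 5 * 7

theorem Concl.map_conj {S : Subgroup G} (h : Concl S) (g : G) :
    Concl (S.map (MulAut.conj g).toMonoidHom) := by
  obtain ⟨⟨I, ⟨h1, h2, h3, h4, h5⟩, ⟨e⟩⟩, hN, hN'⟩ := h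
  set f := (MulAut.conj g).toMonoidHom with hf
  have hinj : Function.Injective f := (MulAut.conj g).injective
  have hC : centralizer ((S.map f : Subgroup G) : Set G) = (centralizer (S : Set G)).map f := by
    ext x
    have hx : ∃ y, f y = x := ⟨g⁻¹ * x * g, by simp [hf, mul_assoc]⟩
    obtain ⟨y, rfl⟩ := hx
    rw [Subgroup.mem_map_iff_mem hinj, Subgroup.mem_centralizer_iff, Subgroup.mem_centralizer_iff]
    constructor
    · intro h a ha
      apply hinj
      rw [map_mul, map_mul]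
      exact h _ ⟨a, ha, rfl⟩
    · rintro h _ ⟨a, ha, rfl⟩
      rw [← map_mul, ← map_mul, h a ha]
  have hNm : normalizer ((S.map f : Subgroup G) : Set G) = (normalizer (S : Set G)).map f :=
    (Subgroup.map_equiv_normalizer_eq S (MulAut.conj g)).symm
  refine ⟨⟨I.map f, ⟨?_, ?_, ?_, ?_, ?_⟩, ⟨(Subgroup.equivMapOfInjective I f hinj).symm.trans e⟩⟩, ?_, ?_⟩
  · rw [hC]; exact Subgroup.map_mono h1
  · rw [hC]; exact Subgroup.map_mono h2
  · rintro _ ⟨a, ha, rfl⟩ _ ⟨b, hb, rfl⟩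
    rw [← map_mul, ← map_mul, h3 a ha b hb]
  · rw [← Subgroup.map_inf _ _ _ hinj, h4, Subgroup.map_bot]
  · rw [← Subgroup.map_sup, h5, hC]
  · rw [hNm, hC, Subgroup.card_map_of_injective hinj, Subgroup.card_map_of_injective hinj, hN]
  · rw [hNm, Subgroup.card_map_of_injective hinj, hN']

theorem four_dvd_of_commuting {X : Type*} [Group X] [Finite X] {a b : X} (ha : orderOf a = 2)
    (hb : orderOf b = 2) (hab : Commute a b) (hne : a ≠ b) (M : Subgroup X) (haM : a ∈ M) (hbM : b ∈ M) :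
    4 ∣ Nat.card M := by
  let f : ↥(zpowers a) × ↥(zpowers b) →* X :=
    MonoidHom.noncommCoprod (zpowers a).subtype (zpowers b).subtype fun x y => by
      obtain ⟨x, hx⟩ := x
      obtain ⟨y, hy⟩ := y
      obtain ⟨i, rfl⟩ := Subgroup.mem_zpowers_iff.1 hx
      obtain ⟨j, rfl⟩ := Subgroup.mem_zpowers_iff.1 hy
      exact (hab.zpow_left i).zpow_right j
  have htwo : ∀ {c : X}, orderOf c = 2 → ∀ y ∈ zpowers c, y = 1 ∨ y = c := by
    intro c hc y hy
    obtain ⟨i, rfl⟩ := Subgroup.mem_zpowers_iff.1 hy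
    rw [← zpow_mod_orderOf, hc]
    rcases Int.emod_two_eq i with h | h <;> simp only [Nat.cast_ofNat] <;> rw [h]
    · exact Or.inl (zpow_zero c)
    · exact Or.inr (zpow_one c)
  have hinj : Function.Injective f := by
    rw [injective_iff_map_eq_one]
    rintro ⟨x, y⟩ he
    have he' : (x : X) * y = 1 := he
    rcases htwo ha _ x.2 with hx | hx <;> rcases htwo hb _ y.2 with hy | hy <;> rw [hx, hy] at he'
    · exact Prod.ext (Subtype.ext hx) (Subtype.ext hy)
    · rw [one_mul] at he'; rw [he', orderOf_one] at hb; omega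
    · rw [mul_one] at he'; rw [he', orderOf_one] at ha; omega
    · have : b⁻¹ = b := inv_eq_of_mul_eq_one_right (by rw [← pow_two, ← hb, pow_orderOf_eq_one])
      exact absurd ((eq_inv_of_mul_eq_one_left he').trans this) hne
  have h4 : Nat.card f.range = 4 := by
    rw [← Nat.card_congr (MonoidHom.ofInjective hinj).toEquiv, Nat.card_prod, Nat.card_zpowers,
      Nat.card_zpowers, ha, hb]
  rw [← h4]
  refine Subgroup.card_dvd_of_le ?_
  rintro _ ⟨⟨x, y⟩, rfl⟩
  exact mul_mem (Subgroup.zpowers_le.2 haM x.2) (Subgroup.zpowers_le.2 hbM y.2)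

/-- A self-centred dihedral centralizer of order eight contains a conjugate of every involution. -/
theorem conj_into {X : Type*} [Group X] [Finite X] {t : X} (ht : orderOf t = 2)
    (hCt : Nat.card (centralizer ({t} : Set X)) = 8)
    (hCtn : ∃ a ∈ centralizer ({t} : Set X), ∃ b ∈ centralizer ({t} : Set X), a * b ≠ b * a)
    {z : X} (hz : orderOf z = 2) : ∃ g : X, Commute (g * z * g⁻¹) t := by
  classical
  haveI : Fact (Nat.Prime 2) := ⟨Nat.prime_two⟩
  set C := centralizer ({t} : Set X) with hC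
  have hp : IsPGroup 2 C := IsPGroup.of_card (n := 3) (by rw [hCt]; norm_num)
  obtain ⟨T, hT⟩ := hp.exists_le_sylow
  have htC : t ∈ C := mem_centralizer_singleton_iff.2 rfl
  have hcen : ∀ c ∈ C, (∀ d ∈ C, c * d = d * c) → c = 1 ∨ c = t := by
    intro c hc hcd
    by_contra h
    push Not at h
    obtain ⟨h1, ht'⟩ := h
    have h2 : 4 ∣ Nat.card (Subgroup.center ↥C) := by
      have htc : (⟨t, htC⟩ : ↥C) ∈ Subgroup.center ↥C := Subgroup.mem_center_iff.2 fun d =>
        Subtype.ext (mem_centralizer_singleton_iff.1 d.2)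
      have hcc : (⟨c, hc⟩ : ↥C) ∈ Subgroup.center ↥C := Subgroup.mem_center_iff.2 fun d =>
        Subtype.ext (hcd d d.2).symm
      have hdvd : Nat.card (Subgroup.center ↥C) ∣ 2 ^ 3 := by
        rw [show (2 : ℕ) ^ 3 = Nat.card C by rw [hCt]; norm_num]
        exact Subgroup.card_subgroup_dvd_card _
      obtain ⟨k, hk, hk'⟩ := (Nat.dvd_prime_pow Nat.prime_two).1 hdvd
      rw [hk']
      refine pow_dvd_pow 2 (show 2 ≤ k from ?_)
      by_contra hk2
      have hle : Nat.card (Subgroup.center ↥C) ≤ 2 := by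
        rw [hk']
        exact (Nat.pow_le_pow_right (by norm_num) (show k ≤ 1 by omega)).trans (by norm_num)
      have h3 : ({(1 : ↥C), ⟨t, htC⟩, ⟨c, hc⟩} : Set ↥C) ⊆ (Subgroup.center ↥C : Set ↥C) := by
        rintro y (rfl | rfl | rfl)
        · exact one_mem _
        · exact htc
        · exact hcc
      have h4 := Set.ncard_le_ncard h3 (Set.toFinite _)
      rw [← Nat.card_coe_set_eq (Subgroup.center ↥C : Set ↥C), SetLike.coe_sort_coe,
        Set.ncard_insert_of_notMem (by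
          simp only [Set.mem_insert_iff, Set.mem_singleton_iff, not_or]
          exact ⟨fun h => by
            have : (1 : X) = t := congrArg Subtype.val h
            rw [← this, orderOf_one] at ht; omega,
            fun h => h1 (congrArg Subtype.val h).symm⟩),
        Set.ncard_pair (fun h => ht' (congrArg Subtype.val h).symm)] at h4
      omega
    obtain ⟨a, ha, b, hb, hab⟩ := hCtn
    have hnc : ¬ IsMulCommutative ↥C := fun h =>
      hab (congrArg Subtype.val (h.is_comm.comm ⟨a, ha⟩ ⟨b, hb⟩))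
    have hq : Nat.card (↥C ⧸ Subgroup.center ↥C) ∣ 2 := by
      have h := Subgroup.card_eq_card_quotient_mul_card_subgroup (Subgroup.center ↥C)
      rw [hCt] at h
      obtain ⟨r, hr⟩ := h2
      rw [hr] at h
      exact ⟨r, by nlinarith⟩
    haveI : IsCyclic (↥C ⧸ Subgroup.center ↥C) := by
      rcases (Nat.dvd_prime Nat.prime_two).1 hq with h | h
      · haveI := (Nat.card_eq_one_iff_unique.1 h).1
        infer_instance
      · exact isCyclic_of_prime_card h
    refine hnc ⟨⟨fun x y => ?_⟩⟩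
    exact commutative_of_cyclic_center_quotient (QuotientGroup.mk' (Subgroup.center ↥C))
      (by rw [QuotientGroup.ker_mk']) x y
  have hTC : (T : Subgroup X) = C := by
    by_contra hne
    have hlt : C < (T : Subgroup X) := lt_of_le_of_ne hT (Ne.symm hne)
    haveI := T.isPGroup'.isNilpotent
    have hnc := normalizerCondition_of_isNilpotent (G := ↥(T : Subgroup X))
    have hlt' : C.subgroupOf T < ⊤ := lt_top_iff_ne_top.2 fun e =>
      hlt.not_ge (Subgroup.subgroupOf_eq_top.1 e)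
    obtain ⟨n, hn, hnC⟩ := SetLike.exists_of_lt (hnc _ hlt')
    rw [← Subgroup.subgroupOf_normalizer_eq hT, Subgroup.mem_subgroupOf] at hn
    rw [Subgroup.mem_subgroupOf] at hnC
    refine hnC (mem_centralizer_singleton_iff.2 (mul_inv_eq_iff_eq_mul.1 ?_))
    have hmem : (n : X) * t * (n : X)⁻¹ ∈ C := (Subgroup.mem_normalizer_iff.1 hn t).1 htC
    refine (hcen _ hmem fun d hd => ?_).resolve_left fun h => ?_
    · have hd' := (Subgroup.mem_normalizer_iff''.1 hn d).1 hd
      calc (n : X) * t * (n : X)⁻¹ * d = n * (t * ((n : X)⁻¹ * d * n)) * (n : X)⁻¹ := by group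
        _ = n * ((n : X)⁻¹ * d * n * t) * (n : X)⁻¹ := by rw [mem_centralizer_singleton_iff.1 hd']
        _ = _ := by group
    · rw [conj_eq_one_iff.1 h, orderOf_one] at ht; omega
  obtain ⟨T', hT'⟩ := (IsPGroup.of_card (p := 2) (n := 1) (G := ↥(zpowers z))
    (by rw [Nat.card_zpowers, hz, pow_one])).exists_le_sylow
  obtain ⟨g, hg⟩ := MulAction.exists_smul_eq X T' T
  refine ⟨g, mem_centralizer_singleton_iff.1 ?_⟩
  show g * z * g⁻¹ ∈ C
  rw [← hTC, ← hg, Sylow.coe_subgroup_smul, Subgroup.mem_pointwise_smul_iff_inv_smul_mem]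
  simpa [MulAut.smul_def, mul_assoc] using hT' (Subgroup.mem_zpowers z)

/-- The local structure at an element of order seven. -/
theorem main [IsSimpleGroup G] (hJ : IsOfJankoFourTypeWith z P)
    (hN : normalizer (P : Set G) ≤ centralizer ({z} : Set G))
    (hD6 : Nat.card ↥(Subgroup.center ↥(centralizer ({z} : Set G) ⊓ centralizer (P : Set G))) = 6)
    (hM : Spor.IsoM22 (↥(centralizer ({z} : Set G) ⊓ centralizer (P : Set G)) ⧸
      Subgroup.center ↥(centralizer ({z} : Set G) ⊓ centralizer (P : Set G))))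
    (h64 : ∀ x y : G, orderOf x = 3 → orderOf y = 3 → IsConj x y)
    (h67 : ∀ V : Subgroup G, IsElementaryAbelian 2 V → Nat.card V = 2 ^ 11 →
      ∃ K : Subgroup G, K ≤ normalizer (V : Set G) ∧ K ⊓ V = ⊥ ∧ K ⊔ V = normalizer (V : Set G) ∧
        Spor.IsoM24 ↥K)
    (h68 : ∀ V : Subgroup G, IsElementaryAbelian 2 V → Nat.card V = 2 ^ 11 →
      ∃ z' t : G, z' ∈ V ∧ t ∈ V ∧ t ≠ 1 ∧ IsConj z z' ∧ ¬ IsConj z t ∧
      Set.ncard {v : G | ∃ n ∈ normalizer (V : Set G), n * z' * n⁻¹ = v} = 1771 ∧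
      Set.ncard {v : G | ∃ n ∈ normalizer (V : Set G), n * t * n⁻¹ = v} = 276 ∧
      centralizer ({t} : Set G) ≤ normalizer (V : Set G))
    (hfix : ∀ s e : G, orderOf s = 7 → s * z = z * s → e ∈ twoCoreOfCentralizer z → s * e = e * s →
      e = 1 ∨ e = z)
    (h24 : ∀ X : Subgroup Cfsg.M24, Nat.card X = 7 →
      Nat.card (normalizer (X : Set Cfsg.M24)) = 126 ∧ Nat.card (centralizer (X : Set Cfsg.M24)) = 42)
    (h22 : ∀ X : Subgroup Spor.M22, Nat.card X = 7 →
      Nat.card (centralizer (X : Set Spor.M22)) = 7)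
    (S : Subgroup G) (hS : Nat.card S = 7) (hSz : S ≤ centralizer ({z} : Set G)) :
    ¬ 49 ∣ Nat.card G ∧ Concl S := by
  classical
  haveI : Fact (Nat.Prime 7) := ⟨by norm_num⟩
  haveI : Fact (Nat.Prime 2) := ⟨Nat.prime_two⟩
  have hz := hJ.1
  have hP3 : Nat.card P = 3 := by obtain ⟨-, -, -, -, -, h, -⟩ := hJ; exact h
  have hC49 : ¬ 49 ∣ Nat.card (centralizer ({z} : Set G)) := by
    rw [SylThree.card_centralizer hJ]; norm_num
  obtain ⟨V₀, -, hV₀, hV₀c⟩ := exists_elementary hJ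
  obtain ⟨K₀, hK₀1, hK₀2, hK₀3, hK₀4⟩ := h67 V₀ hV₀ hV₀c
  obtain ⟨V, K, s, p, hV, hVc, hKN, hKV, hsup, hK, hsK, hpK, hs, hp3, hsp, hpP⟩ :=
    exists_data hP3 h64 h24 V₀ K₀ hV₀ hV₀c hK₀1 hK₀2 hK₀3 hK₀4
  obtain ⟨hsz, hpz, hL, hLu⟩ := seven_three hJ hN hD6 hM h22 hs hpP hp3 hsp
  have hCpC : centralizer ({p} : Set G) ≤ centralizer ({z} : Set G) := by
    rw [← centralizer_zpowers_eq, ← eq_zpowers hP3 hpP hp3]
    exact (Subgroup.centralizer_le_normalizer (P : Set G)).trans hN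
  have hB := seven_invol hJ hs (fun e he hc => hfix s e hs hsz.eq he hc) hpP hp3 hsz hpz hsp hL
    (fun x hx => mem_centralizer_singleton_iff.1 (hCpC hx.2))
  obtain ⟨hNKc, hCKc, hF4, t, htV, ht2, hst, htnc, hC56, htrans, ⟨u, hus, hut, hu2, w, hw, huw⟩, hnorm⟩ :=
    seven_side hz hC49 hV hVc hKN hKV hsup hK hsK hpK hs hp3 hsp hsz hLu hB h24 (h68 V hV hVc)
  haveI hn7 := zsub_normal s
  set Cs := centralizer ({s} : Set G) with hCs
  set zc : ↥Cs := ⟨z, mem_centralizer_singleton_iff.2 hsz.symm.eq⟩ with hzc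
  set tc : ↥Cs := ⟨t, mem_centralizer_singleton_iff.2 hst.symm.eq⟩ with htc
  set pc : ↥Cs := ⟨p, mem_centralizer_singleton_iff.2 hsp.symm.eq⟩ with hpc
  set W₀ : Subgroup ↥Cs := (V ⊓ Cs).subgroupOf Cs with hW₀
  set W := W₀.map (qmk s) with hW
  have h27 : Nat.Coprime 2 7 := by norm_num
  have hsq : ∀ x ∈ V, x ^ 2 = 1 := hV.2
  have hinv : ∀ {x : G}, orderOf x = 2 → x ^ 2 = 1 := fun h => h ▸ pow_orderOf_eq_one _
  have hWc : Nat.card W = 4 := by
    rw [hW, ← hF4]
    refine (Nat.card_congr (Equiv.ofBijective (fun x : ↥(V ⊓ Cs) =>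
      (⟨qmk s ⟨x, x.2.2⟩, Subgroup.mem_map_of_mem _ (Subgroup.mem_subgroupOf.2 x.2)⟩ : ↥(W₀.map (qmk s))))
      ⟨fun x y h => ?_, ?_⟩)).symm
    · exact Subtype.ext (congrArg (fun a : ↥Cs => (a : G)) (eq_of_mk hs h27 (x := ⟨x, x.2.2⟩) (y := ⟨y, y.2.2⟩)
        (hsq _ x.2.1) (hsq _ y.2.1) (congrArg Subtype.val h)))
    · rintro ⟨_, x, hx, rfl⟩
      exact ⟨⟨x, Subgroup.mem_subgroupOf.1 hx⟩, rfl⟩
  have hzX : orderOf (qmk s zc) = 2 := mk_prime hs Nat.prime_two h27 hz
  have htX : orderOf (qmk s tc) = 2 := mk_prime hs Nat.prime_two h27 ht2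
  have hpX : orderOf (qmk s pc) = 3 := mk_prime hs Nat.prime_three (by norm_num) hp3
  have hncX : ¬ IsConj (qmk s zc) (qmk s tc) := fun h => by
    obtain ⟨c, -, hc⟩ := isConj_of_mk hs h27 (hinv hz) (hinv ht2) h
    exact htnc (isConj_iff.2 ⟨c, hc⟩)
  have hWel : ∀ x ∈ W, x * x = 1 := by
    rintro _ ⟨y, hy, rfl⟩
    rw [← map_mul, show y * y = 1 from Subtype.ext (by
      rw [Subgroup.coe_mul, ← pow_two]; exact hsq _ (Subgroup.mem_subgroupOf.1 hy).1), map_one]
  have htW : qmk s tc ∈ W := Subgroup.mem_map_of_mem _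
    (Subgroup.mem_subgroupOf.2 ⟨htV, mem_centralizer_singleton_iff.2 hst.symm.eq⟩)
  have hWt : ∀ x ∈ W, x ≠ 1 → IsConj (qmk s tc) x := by
    rintro _ ⟨y, hy, rfl⟩ hy1
    have hy' := Subgroup.mem_subgroupOf.1 hy
    obtain ⟨c, hc, he⟩ := htrans _ hy' fun h => hy1 (by rw [show y = 1 from Subtype.ext h, map_one])
    refine isConj_iff.2 ⟨qmk s ⟨c, mem_centralizer_singleton_iff.2 hc.eq⟩, ?_⟩
    rw [← map_inv, ← map_mul, ← map_mul]
    exact congrArg (qmk s) (Subtype.ext he)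
  have hWC : W ≤ centralizer ({qmk s tc} : Set _) := by
    rintro _ ⟨y, hy, rfl⟩
    rw [mem_centralizer_singleton_iff, ← map_mul, ← map_mul]
    refine congrArg (qmk s) (Subtype.ext ?_)
    exact congrArg (fun a : ↥V => (a : G)) (hV.1.is_comm.comm ⟨(y : G), (Subgroup.mem_subgroupOf.1 hy).1⟩ ⟨t, htV⟩)
  have hCt : Nat.card (centralizer ({qmk s tc} : Set _)) = 8 := by
    have h := card_centralizer_mk hs tc h27 (hinv ht2)
    rw [hC56] at h
    omega
  have hwG : w ^ 2 = 1 := hsq w hw.1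
  have hCtn : ∃ a ∈ centralizer ({qmk s tc} : Set _), ∃ b ∈ centralizer ({qmk s tc} : Set _),
      a * b ≠ b * a := by
    refine ⟨qmk s ⟨u, mem_centralizer_singleton_iff.2 hus.eq⟩, ?_, qmk s ⟨w, hw.2⟩,
      hWC (Subgroup.mem_map_of_mem _ (Subgroup.mem_subgroupOf.2 hw)), fun h => huw ?_⟩
    · rw [mem_centralizer_singleton_iff, ← map_mul, ← map_mul]
      exact congrArg (qmk s) (Subtype.ext hut.eq)
    · have h' : qmk s (⟨u, mem_centralizer_singleton_iff.2 hus.eq⟩ * ⟨w, hw.2⟩ *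
          (⟨u, mem_centralizer_singleton_iff.2 hus.eq⟩ : ↥Cs)⁻¹) = qmk s ⟨w, hw.2⟩ := by
        rw [map_mul, map_mul, h, map_inv, mul_inv_cancel_right]
      exact mul_inv_eq_iff_eq_mul.1 (congrArg Subtype.val (eq_of_mk hs h27
        (by rw [Subgroup.coe_mul, Subgroup.coe_mul, Subgroup.coe_inv, conj_pow, hwG]; group) hwG h'))
  have hCz : Nat.card (centralizer ({qmk s zc} : Set _)) = 12 := by
    have h := card_centralizer_mk hs zc h27 (hinv hz)
    set n := Nat.card (centralizer ({qmk s zc} : Set _)) with hn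
    have h12 : n ∣ 12 := by
      refine Nat.dvd_of_mul_dvd_mul_right (show 0 < 7 by norm_num) ?_
      rw [h]; exact hB
    have h3 : 3 ∣ n := hpX ▸ Subgroup.orderOf_dvd_natCard _ (mem_centralizer_singleton_iff.2 (by
      rw [← map_mul, ← map_mul]; exact congrArg (qmk s) (Subtype.ext hpz.eq)))
    obtain ⟨g, hg⟩ := conj_into htX hCt hCtn hzX
    have hy : g⁻¹ * qmk s tc * g ∈ centralizer ({qmk s zc} : Set _) := by
      rw [mem_centralizer_singleton_iff, ← mul_right_inj g, ← mul_left_inj g⁻¹]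
      calc g * (g⁻¹ * qmk s tc * g * qmk s zc) * g⁻¹ = qmk s tc * (g * qmk s zc * g⁻¹) := by group
        _ = g * qmk s zc * g⁻¹ * qmk s tc := hg.eq.symm
        _ = _ := by group
    have h4 : 4 ∣ n := four_dvd_of_commuting hzX (b := g⁻¹ * qmk s tc * g) (by
        rw [show g⁻¹ * qmk s tc * g = (MulAut.conj g⁻¹).toMonoidHom (qmk s tc) by simp [mul_assoc],
          orderOf_injective (MulAut.conj g⁻¹).toMonoidHom (MulAut.conj g⁻¹).injective, htX])
      (mem_centralizer_singleton_iff.1 hy).symm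
      (fun e => hncX (isConj_iff.2 ⟨g, by rw [e]; group⟩))
      _ (mem_centralizer_singleton_iff.2 rfl) hy
    exact Nat.dvd_antisymm h12 (Nat.Coprime.mul_dvd_of_dvd_of_dvd (by norm_num : Nat.Coprime 3 4) h3 h4)
  have hCp : Nat.card (centralizer ({qmk s pc} : Set _)) = 6 := by
    have h := card_centralizer_mk hs pc (n := 3) (by norm_num) (hp3 ▸ pow_orderOf_eq_one p)
    rw [hL] at h
    omega
  obtain ⟨⟨eS⟩, hclass⟩ := seven_quotient (qmk s zc) (qmk s tc) W hzX htX hncX hWc hWel htW hWt hWC hCt hCtn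
    hCz (qmk s pc) hpX (by rw [← map_mul, ← map_mul]; exact congrArg (qmk s) (Subtype.ext hpz.eq)) hCp
  have hX : Nat.card (↥Cs ⧸ (zpowers s).subgroupOf Cs) = 120 := by
    rw [Nat.card_congr eS.toEquiv, Nat.card_perm, Nat.card_fin]
    rfl
  have hCsc : Nat.card Cs = 840 := by rw [← card_quot hs, hX]
  have h49 : ¬ 49 ∣ Nat.card G := by
    intro h
    obtain ⟨T, hTc, hTle⟩ := Sylow.exists_subgroup_card_pow_succ (p := 7) (n := 1) (by simpa using h)
      (show Nat.card (zpowers s) = 7 ^ 1 by rw [Nat.card_zpowers, hs, pow_one])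
    have hab := IsPGroup.commutative_of_card_eq_prime_sq (G := ↥T) hTc
    have hTC : T ≤ Cs := fun x hx => mem_centralizer_singleton_iff.2 (congrArg Subtype.val
      (hab ⟨x, hx⟩ ⟨s, hTle (Subgroup.mem_zpowers s)⟩))
    have := Subgroup.card_dvd_of_le hTC
    rw [hTc, hCsc] at this
    norm_num at this
  refine ⟨h49, ?_⟩
  -- the given subgroup is conjugate to the constructed one
  obtain ⟨s', hs'S, hs'⟩ := exists_gen (by norm_num : Nat.Prime 7) hS
  obtain ⟨c, -, -, hmap⟩ := conj_zpowers_of_not_dvd (a := s) (b := s')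
    (C := centralizer ({z} : Set G)) hC49 (mem_centralizer_singleton_iff.2 hsz.eq) (hSz hs'S) hs hs'
  rw [eq_zpowers hS hs'S hs', ← hmap]
  refine Concl.map_conj ?_ c
  rw [Concl, centralizer_zpowers_eq, ← hCs, hCsc]
  have hsCs : zpowers s ≤ Cs := Subgroup.zpowers_le.2 (mem_centralizer_singleton_iff.2 rfl)
  -- complement
  have hSc : Nat.card ((zpowers s).subgroupOf Cs) = 7 := by
    rw [Nat.card_congr (Subgroup.subgroupOfEquivOfLe hsCs).toEquiv, Nat.card_zpowers, hs]
  have hidx : ((zpowers s).subgroupOf Cs).index = 120 := by rw [Subgroup.index_eq_card, hX]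
  obtain ⟨I₀, hI₀⟩ := Subgroup.exists_right_complement'_of_coprime (N := (zpowers s).subgroupOf Cs)
    (by rw [hSc, hidx]; norm_num)
  have hI₀c : Nat.card I₀ = 120 := by
    have h := hI₀.card_mul
    rw [hSc, hCsc] at h
    omega
  have hIeq : Nonempty (↥(I₀.map Cs.subtype) ≃* Equiv.Perm (Fin 5)) := by
    let φ := eS.toMonoidHom.comp ((qmk s).comp I₀.subtype)
    have hφ : Function.Injective φ := by
      rw [injective_iff_map_eq_one]
      intro x hx
      have h1 : qmk s (x : ↥Cs) = 1 := eS.map_eq_one_iff.1 hx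
      have h2 : (x : ↥Cs) ∈ (zpowers s).subgroupOf Cs := (QuotientGroup.eq_one_iff _).1 h1
      exact Subtype.ext (Subgroup.mem_bot.1 (hI₀.disjoint.le_bot ⟨h2, x.2⟩))
    have hb : Function.Bijective φ := (Nat.bijective_iff_injective_and_card φ).2
      ⟨hφ, by rw [hI₀c, Nat.card_perm, Nat.card_fin]; rfl⟩
    exact ⟨(Subgroup.equivMapOfInjective I₀ Cs.subtype Cs.subtype_injective).symm.trans
      (MulEquiv.ofBijective φ hb)⟩
  refine ⟨⟨I₀.map Cs.subtype, ⟨hsCs, Subgroup.map_subtype_le I₀, ?_, ?_, ?_⟩, hIeq⟩, ?_⟩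
  · intro a ha b hb
    obtain ⟨i, rfl⟩ := Subgroup.mem_zpowers_iff.1 ha
    exact ((show Commute b s from mem_centralizer_singleton_iff.1
      (Subgroup.map_subtype_le I₀ hb)).zpow_right i).symm.eq
  · have h := congrArg (Subgroup.map Cs.subtype) hI₀.disjoint.eq_bot
    rwa [Subgroup.map_inf _ _ _ Cs.subtype_injective, Subgroup.map_subgroupOf_eq_of_le hsCs,
      Subgroup.map_bot] at h
  · have h := congrArg (Subgroup.map Cs.subtype) hI₀.sup_eq_top
    rwa [Subgroup.map_sup, Subgroup.map_subgroupOf_eq_of_le hsCs, ← MonoidHom.range_eq_map,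
      Subgroup.range_subtype] at h
  -- the normalizer
  set NS := normalizer (zpowers s : Set G) with hNS
  have hCsN : Cs ≤ NS := by
    rw [hCs, ← centralizer_zpowers_eq]
    exact Subgroup.centralizer_le_normalizer _
  have hnC : ∀ {x : G}, x ∈ Cs → ∀ y ∈ zpowers s, Commute y x := fun {x} hx y hy => by
    obtain ⟨i, rfl⟩ := Subgroup.mem_zpowers_iff.1 hy
    exact (show Commute s x from (mem_centralizer_singleton_iff.1 hx).symm).zpow_left i
  have hNC : ∀ n ∈ NS, ∀ x ∈ Cs, n * x * n⁻¹ ∈ Cs := by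
    intro n hn x hx
    have hy := hnC hx _ ((Subgroup.mem_normalizer_iff''.1 hn s).1 (Subgroup.mem_zpowers s))
    rw [mem_centralizer_singleton_iff]
    calc n * x * n⁻¹ * s = n * (x * (n⁻¹ * s * n)) * n⁻¹ := by group
      _ = n * (n⁻¹ * s * n * x) * n⁻¹ := by rw [hy.eq]
      _ = _ := by group
  haveI hnn : (Cs.subgroupOf NS).Normal := ⟨fun x hx g =>
    Subgroup.mem_subgroupOf.2 (hNC g g.2 x (Subgroup.mem_subgroupOf.1 hx))⟩
  let ψ : ↥(NS ⊓ K) →* ↥NS ⧸ Cs.subgroupOf NS :=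
    (QuotientGroup.mk' (Cs.subgroupOf NS)).comp (Subgroup.inclusion inf_le_left)
  have hker : Nat.card ψ.ker = 42 := by
    rw [← hCKc]
    exact Nat.card_congr
      { toFun := fun x => ⟨((x : ↥(NS ⊓ K)) : G), Subgroup.mem_inf.2
          ⟨Subgroup.mem_subgroupOf.1 ((QuotientGroup.eq_one_iff (N := Cs.subgroupOf NS)
            (Subgroup.inclusion inf_le_left (x : ↥(NS ⊓ K)))).1 x.2), (x : ↥(NS ⊓ K)).2.2⟩⟩
        invFun := fun x => ⟨⟨x.1, Subgroup.mem_inf.2 ⟨hCsN x.2.1, x.2.2⟩⟩,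
          (QuotientGroup.eq_one_iff _).2 (Subgroup.mem_subgroupOf.2 x.2.1)⟩
        left_inv := fun x => rfl
        right_inv := fun x => rfl }
  have hsurj : ψ.range = ⊤ := by
    rw [eq_top_iff]
    intro q _
    obtain ⟨⟨n, hn⟩, rfl⟩ := QuotientGroup.mk'_surjective _ q
    have htCs : t ∈ Cs := mem_centralizer_singleton_iff.2 hst.symm.eq
    set t' : ↥Cs := ⟨n * t * n⁻¹, hNC n hn t htCs⟩ with ht'
    have ht'2 : orderOf (t' : G) = 2 := by
      show orderOf ((MulAut.conj n).toMonoidHom t) = 2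
      rw [orderOf_injective (MulAut.conj n).toMonoidHom (MulAut.conj n).injective, ht2]
    rcases hclass (qmk s t') (mk_prime hs Nat.prime_two h27 ht'2) with h | h
    · obtain ⟨c, -, hc⟩ := isConj_of_mk hs h27 (hinv hz) (hinv ht'2) h
      exact absurd ((isConj_iff.2 ⟨c, hc⟩).trans (isConj_iff.2 ⟨n, rfl⟩).symm) htnc
    · obtain ⟨c, hc, hct⟩ := isConj_of_mk hs h27 (hinv ht2) (hinv ht'2) h
      have hcCs : c ∈ Cs := mem_centralizer_singleton_iff.2 hc
      have hct' : Commute (c⁻¹ * n) t := by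
        have hct2 : c * t * c⁻¹ = n * t * n⁻¹ := hct
        calc c⁻¹ * n * t = c⁻¹ * (n * t * n⁻¹) * n := by group
          _ = c⁻¹ * (c * t * c⁻¹) * n := by rw [hct2]
          _ = t * (c⁻¹ * n) := by group
      obtain ⟨k, hk, c', hc', he⟩ := hnorm _ (mul_mem (inv_mem (hCsN hcCs)) hn) hct'
      refine ⟨⟨k, hk⟩, ?_⟩
      show QuotientGroup.mk' _ _ = QuotientGroup.mk' _ _
      rw [QuotientGroup.mk'_eq_mk']
      refine ⟨⟨k⁻¹ * n, mul_mem (inv_mem hk.1) hn⟩, Subgroup.mem_subgroupOf.2 ?_,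
        Subtype.ext (show k * (k⁻¹ * n) = n by group)⟩
      have hn' : n = c * (k * c') := by rw [he]; group
      show k⁻¹ * n ∈ Cs
      have hcc : k⁻¹ * c * k⁻¹⁻¹ ∈ Cs := hNC _ (inv_mem hk.1) c hcCs
      rw [hn', show k⁻¹ * (c * (k * c')) = k⁻¹ * c * k⁻¹⁻¹ * c' by group]
      exact mul_mem hcc (mem_centralizer_singleton_iff.2 hc'.eq)
  have hNcard : Nat.card NS = 2520 := by
    have h1 := ψ.ker.card_mul_index
    rw [Subgroup.index_ker, hsurj, Subgroup.card_top, hker, hNKc] at h1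
    have h2 := Subgroup.card_eq_card_quotient_mul_card_subgroup (Cs.subgroupOf NS)
    rw [Nat.card_congr (Subgroup.subgroupOfEquivOfLe hCsN).toEquiv, hCsc] at h2
    rw [h2]
    omega
  rw [hNcard]
  norm_num

end Cfsg.Agent.JFourType.Seven
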