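import Cfsg.Agent.S5563
import Cfsg.Agent.S5564
import Cfsg.Agent.JFourType.SevenMain
import Cfsg.Agent.JFourType.SevenData

/-!
The local structure at an element of order seven, given the normalizer of an elementary abelian
subgroup of order `2^11` and its orbits.
-/

set_option autoImplicit false

namespace Cfsg.Agent.JFourType.Seven

open Cfsg

theorem seven_structure {G : Type*} [Group G] [Finite G] [IsSimpleGroup G] (hG : ¬ IsMulCommutative G)
    (z : G) (hJ : IsOfJankoFourTypeAt z)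
    (h67 : ∀ V : Subgroup G, IsElementaryAbelian 2 V → Nat.card V = 2 ^ 11 →
      Subgroup.centralizer (V : Set G) ≤ V ∧ ∃ K : Subgroup G, K ≤ Subgroup.normalizer (V : Set G) ∧
        K ⊓ V = ⊥ ∧ K ⊔ V = Subgroup.normalizer (V : Set G) ∧ Spor.IsoM24 ↥K)
    (h68 : ∀ V : Subgroup G, IsElementaryAbelian 2 V → Nat.card V = 2 ^ 11 →
      ∃ z' t : G, z' ∈ V ∧ t ∈ V ∧ t ≠ 1 ∧ IsConj z z' ∧ ¬ IsConj z t ∧
      Set.ncard {v : G | ∃ n ∈ Subgroup.normalizer (V : Set G), n * z' * n⁻¹ = v} = 1771 ∧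
      Set.ncard {v : G | ∃ n ∈ Subgroup.normalizer (V : Set G), n * t * n⁻¹ = v} = 276 ∧
      Subgroup.centralizer ({t} : Set G) ≤ Subgroup.normalizer (V : Set G))
    (S : Subgroup G) (hS : Nat.card ↥S = 7) (hSz : S ≤ Subgroup.centralizer ({z} : Set G)) :
    ¬ (49 ∣ Nat.card G) ∧
    (∃ I : Subgroup G, IsInternalDirectProduct S I (Subgroup.centralizer (S : Set G)) ∧
      Nonempty (↥I ≃* Equiv.Perm (Fin 5))) ∧
    Nat.card ↥(Subgroup.normalizer (S : Set G)) = 3 * Nat.card ↥(Subgroup.centralizer (S : Set G)) ∧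
    Nat.card ↥(Subgroup.normalizer (S : Set G)) = 2 ^ 3 * 3 ^ 2 * 5 * 7 := by
  obtain ⟨P, hP⟩ := hJ
  obtain ⟨-, -, hD6, hM, hN⟩ := Cfsg.Agent.S5563.result hG z P hP
  exact main hP hN hD6 hM (Cfsg.Agent.S5564.result hG ⟨z, P, hP⟩) (fun V hV hc => (h67 V hV hc).2) h68
    (fun s e hs hsz he hc => JFourType.seven_fix hP hs hsz he hc) JFourType.m24_seven JFourType.m22_seven
    S hS hSz

end Cfsg.Agent.JFourType.Seven
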